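import Mathlib

/-!
Fields with eight and nine elements with decidable arithmetic.
-/

set_option autoImplicit false

namespace Cfsg.Agent.Lib.PiwekK

/-- The field with 8 elements, given by tables. -/
def F8 : Type := Fin 8

namespace F8

instance : DecidableEq F8 := inferInstanceAs (DecidableEq (Fin 8))
instance : Fintype F8 := inferInstanceAs (Fintype (Fin 8))

/-- the element with a given code -/
def mk (n : ℕ) : F8 := ⟨n % 8, Nat.mod_lt _ (by decide)⟩
/-- the code -/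
def v (a : F8) : ℕ := Fin.val a
def addT : List ℕ := [0, 1, 2, 3, 4, 5, 6, 7, 1, 0, 3, 2, 5, 4, 7, 6, 2, 3, 0, 1, 6, 7, 4, 5, 3, 2, 1, 0, 7, 6, 5, 4, 4, 5, 6, 7, 0, 1, 2, 3, 5, 4, 7, 6, 1, 0, 3, 2, 6, 7, 4, 5, 2, 3, 0, 1, 7, 6, 5, 4, 3, 2, 1, 0]
def mulT : List ℕ := [0, 0, 0, 0, 0, 0, 0, 0, 0, 1, 2, 3, 4, 5, 6, 7, 0, 2, 4, 6, 3, 1, 7, 5, 0, 3, 6, 5, 7, 4, 1, 2, 0, 4, 3, 7, 6, 2, 5, 1, 0, 5, 1, 4, 2, 7, 3, 6, 0, 6, 7, 1, 5, 3, 2, 4, 0, 7, 5, 2, 1, 6, 4, 3]
def negT : List ℕ := [0, 1, 2, 3, 4, 5, 6, 7]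
def invT : List ℕ := [0, 1, 5, 6, 7, 2, 3, 4]
def add' (a b : F8) : F8 := mk (addT.getD (Nat.add (Nat.mul 8 (v a)) (v b)) 0)
def mul' (a b : F8) : F8 := mk (mulT.getD (Nat.add (Nat.mul 8 (v a)) (v b)) 0)
def neg' (a : F8) : F8 := mk (negT.getD (v a) 0)
def inv' (a : F8) : F8 := mk (invT.getD (v a) 0)

instance : Zero F8 := ⟨mk 0⟩
instance : One F8 := ⟨mk 1⟩
instance : Add F8 := ⟨add'⟩
instance : Mul F8 := ⟨mul'⟩
instance : Neg F8 := ⟨neg'⟩

instance : CommRing F8 where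
  add := add'
  add_assoc := by decide +kernel
  zero := mk 0
  zero_add := by decide +kernel
  add_zero := by decide +kernel
  nsmul := nsmulRec
  zsmul := zsmulRec
  neg := neg'
  neg_add_cancel := by decide +kernel
  add_comm := by decide +kernel
  mul := mul'
  left_distrib := by decide +kernel
  right_distrib := by decide +kernel
  zero_mul := by decide +kernel
  mul_zero := by decide +kernel
  mul_assoc := by decide +kernel
  one := mk 1
  one_mul := by decide +kernel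
  mul_one := by decide +kernel
  mul_comm := by decide +kernel

instance : Field F8 :=
  { (inferInstance : CommRing F8) with
    inv := inv'
    exists_pair_ne := ⟨mk 0, mk 1, by decide⟩
    mul_inv_cancel := by decide +kernel
    inv_zero := by decide +kernel
    nnqsmul := _
    qsmul := _ }

theorem card : Fintype.card F8 = 8 := Fintype.card_fin 8

end F8

/-- The field with 9 elements, given by tables. -/
def F9 : Type := Fin 9

namespace F9

instance : DecidableEq F9 := inferInstanceAs (DecidableEq (Fin 9))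
instance : Fintype F9 := inferInstanceAs (Fintype (Fin 9))

/-- the element with a given code -/
def mk (n : ℕ) : F9 := ⟨n % 9, Nat.mod_lt _ (by decide)⟩
/-- the code -/
def v (a : F9) : ℕ := Fin.val a
def addT : List ℕ := [0, 1, 2, 3, 4, 5, 6, 7, 8, 1, 2, 0, 4, 5, 3, 7, 8, 6, 2, 0, 1, 5, 3, 4, 8, 6, 7, 3, 4, 5, 6, 7, 8, 0, 1, 2, 4, 5, 3, 7, 8, 6, 1, 2, 0, 5, 3, 4, 8, 6, 7, 2, 0, 1, 6, 7, 8, 0, 1, 2, 3, 4, 5, 7, 8, 6, 1, 2, 0, 4, 5, 3, 8, 6, 7, 2, 0, 1, 5, 3, 4]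
def mulT : List ℕ := [0, 0, 0, 0, 0, 0, 0, 0, 0, 0, 1, 2, 3, 4, 5, 6, 7, 8, 0, 2, 1, 6, 8, 7, 3, 5, 4, 0, 3, 6, 2, 5, 8, 1, 4, 7, 0, 4, 8, 5, 6, 1, 7, 2, 3, 0, 5, 7, 8, 1, 3, 4, 6, 2, 0, 6, 3, 1, 7, 4, 2, 8, 5, 0, 7, 5, 4, 2, 6, 8, 3, 1, 0, 8, 4, 7, 3, 2, 5, 1, 6]
def negT : List ℕ := [0, 2, 1, 6, 8, 7, 3, 5, 4]
def invT : List ℕ := [0, 1, 2, 6, 5, 4, 3, 8, 7]
def add' (a b : F9) : F9 := mk (addT.getD (Nat.add (Nat.mul 9 (v a)) (v b)) 0)
def mul' (a b : F9) : F9 := mk (mulT.getD (Nat.add (Nat.mul 9 (v a)) (v b)) 0)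
def neg' (a : F9) : F9 := mk (negT.getD (v a) 0)
def inv' (a : F9) : F9 := mk (invT.getD (v a) 0)

instance : Zero F9 := ⟨mk 0⟩
instance : One F9 := ⟨mk 1⟩
instance : Add F9 := ⟨add'⟩
instance : Mul F9 := ⟨mul'⟩
instance : Neg F9 := ⟨neg'⟩

instance : CommRing F9 where
  add := add'
  add_assoc := by decide +kernel
  zero := mk 0
  zero_add := by decide +kernel
  add_zero := by decide +kernel
  nsmul := nsmulRec
  zsmul := zsmulRec
  neg := neg'
  neg_add_cancel := by decide +kernel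
  add_comm := by decide +kernel
  mul := mul'
  left_distrib := by decide +kernel
  right_distrib := by decide +kernel
  zero_mul := by decide +kernel
  mul_zero := by decide +kernel
  mul_assoc := by decide +kernel
  one := mk 1
  one_mul := by decide +kernel
  mul_one := by decide +kernel
  mul_comm := by decide +kernel

instance : Field F9 :=
  { (inferInstance : CommRing F9) with
    inv := inv'
    exists_pair_ne := ⟨mk 0, mk 1, by decide⟩
    mul_inv_cancel := by decide +kernel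
    inv_zero := by decide +kernel
    nnqsmul := _
    qsmul := _ }

theorem card : Fintype.card F9 = 9 := Fintype.card_fin 9

end F9

end Cfsg.Agent.Lib.PiwekK
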