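import Mathlib
import Cfsg.Agent.Lib.PiwekK.Graph
import Cfsg.Agent.Lib.KS2.PSL2

/-!
Homomorphisms of small permutation groups by a kernel computation, and the passage to `PSL₂`.
-/

set_option autoImplicit false

namespace Cfsg.Agent.Lib.PiwekK

open Equiv

/-- the check for the graph of a homomorphism -/
def checkGraphH (a b : ℕ) (ps : List (ℕ × ℕ)) (n : ℕ) : Bool :=
  decide (a + b ≤ 1024) && ps.all (fun p => validB a p.1 && validB b p.2) &&
    checkC (a + b) (ps.map (fun p => combine a b p.1 p.2)) n &&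
    (toL (elemsT (a + b) (ps.map (fun p => combine a b p.1 p.2)))).all (fun c =>
      Nat.beq c (idc (a + b)) || !((List.range a).all (fun i => Nat.beq (dig c i) i)) )

theorem graph_hom {a b : ℕ} {ps : List (ℕ × ℕ)} {n : ℕ} (h : checkGraphH a b ps n = true) :
    (∃ f : grp a (ps.map Prod.fst) →* grp b (ps.map Prod.snd), Function.Surjective f) ∧
      Nat.card (grp a (ps.map Prod.fst)) = n := by
  simp only [checkGraphH, Bool.and_eq_true, List.all_eq_true, decide_eq_true_eq] at h
  obtain ⟨⟨⟨hab, hv⟩, hC⟩, hA⟩ := h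
  set joined := ps.map (fun p => combine a b p.1 p.2) with hj
  obtain ⟨hm, hvj, -, -, -⟩ := checkC_parts hC
  let S : Set (Perm (Fin a) × Perm (Fin b)) := {q | ∃ p ∈ ps, q = (permOf a p.1, permOf b p.2)}
  let A : Subgroup (Perm (Fin a) × Perm (Fin b)) := Subgroup.closure S
  have hθ : A.map (theta a b) = grp (a + b) joined := by
    rw [MonoidHom.map_closure]
    unfold grp
    congr 1
    ext σ
    constructor
    · rintro ⟨q, ⟨p, hp, rfl⟩, rfl⟩
      have hc : combine a b p.1 p.2 ∈ joined := List.mem_map.mpr ⟨p, hp, rfl⟩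
      exact ⟨_, hc, (permOf_combine hab (hv p hp).1 (hv p hp).2 (hvj _ hc)).symm⟩
    · rintro ⟨c, hc, rfl⟩
      obtain ⟨p, hp, rfl⟩ := List.mem_map.mp hc
      exact ⟨_, ⟨p, hp, rfl⟩, (permOf_combine hab (hv p hp).1 (hv p hp).2 (hvj _ hc)).symm⟩
  have hfst : A.map (MonoidHom.fst _ _) = grp a (ps.map Prod.fst) := by
    rw [MonoidHom.map_closure]
    unfold grp
    congr 1
    ext σ
    constructor
    · rintro ⟨q, ⟨p, hp, rfl⟩, rfl⟩
      exact ⟨p.1, List.mem_map.mpr ⟨p, hp, rfl⟩, rfl⟩
    · rintro ⟨c, hc, rfl⟩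
      obtain ⟨p, hp, rfl⟩ := List.mem_map.mp hc
      exact ⟨_, ⟨p, hp, rfl⟩, rfl⟩
  have hsnd : A.map (MonoidHom.snd _ _) = grp b (ps.map Prod.snd) := by
    rw [MonoidHom.map_closure]
    unfold grp
    congr 1
    ext σ
    constructor
    · rintro ⟨q, ⟨p, hp, rfl⟩, rfl⟩
      exact ⟨p.2, List.mem_map.mpr ⟨p, hp, rfl⟩, rfl⟩
    · rintro ⟨c, hc, rfl⟩
      obtain ⟨p, hp, rfl⟩ := List.mem_map.mp hc
      exact ⟨_, ⟨p, hp, rfl⟩, rfl⟩
  have hmemA : ∀ q ∈ A, code (theta a b q) ∈ toL (elemsT (a + b) joined) := by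
    intro q hq
    rw [mem_elemsC_iff hC, ← hθ]
    exact ⟨q, hq, rfl⟩
  have hone : ∀ q ∈ A, code (theta a b q) = idc (a + b) → q = 1 := by
    intro q hq he
    rw [← code_one] at he
    have := code_injective hm he
    exact theta_injective a b (by rw [this, map_one])
  have injF : Function.Injective ((MonoidHom.fst _ _).comp A.subtype) := by
    rw [injective_iff_map_eq_one]
    rintro ⟨⟨s, t⟩, hq⟩ hs
    have hs' : s = 1 := hs
    subst hs'
    apply Subtype.ext
    apply hone _ hq
    have h1 := hA _ (hmemA _ hq)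
    rw [Bool.or_eq_true] at h1
    rcases h1 with h1 | h1
    · exact Nat.beq_eq.mp h1
    · exfalso
      have h2 : (List.range a).all (fun i => Nat.beq (dig (code (theta a b (1, t))) i) i) = true := by
        rw [List.all_eq_true]
        intro i hi
        have hi' : i < a := List.mem_range.mp hi
        have := dig_code hm (theta a b (1, t)) (Fin.castAdd b ⟨i, hi'⟩)
        rw [theta_castAdd] at this
        rw [Nat.beq_eq]
        simpa using this
      rw [h2] at h1
      exact Bool.false_ne_true h1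
  have eF : A ≃* grp a (ps.map Prod.fst) := by
    refine (MonoidHom.ofInjective injF).trans (MulEquiv.subgroupCongr ?_)
    rw [MonoidHom.range_comp, Subgroup.range_subtype, hfst]
  have eT : A ≃* grp (a + b) joined := by
    have : Function.Injective ((theta a b).comp A.subtype) :=
      (theta_injective a b).comp A.subtype_injective
    refine (MonoidHom.ofInjective this).trans (MulEquiv.subgroupCongr ?_)
    rw [MonoidHom.range_comp, Subgroup.range_subtype, hθ]
  refine ⟨?_, ?_⟩
  · have hr : ∀ x : A, (x : Perm (Fin a) × Perm (Fin b)).2 ∈ grp b (ps.map Prod.snd) := by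
      intro x
      rw [← hsnd]
      exact ⟨x, x.2, rfl⟩
    let g : A →* grp b (ps.map Prod.snd) := ((MonoidHom.snd _ _).comp A.subtype).codRestrict _ hr
    have hg : Function.Surjective g := by
      rintro ⟨y, hy⟩
      rw [← hsnd] at hy
      obtain ⟨x, hx, rfl⟩ := hy
      exact ⟨⟨x, hx⟩, rfl⟩
    exact ⟨g.comp eF.symm.toMonoidHom, hg.comp eF.symm.surjective⟩
  · rw [← Nat.card_congr eF.toEquiv, Nat.card_congr eT.toEquiv]
    exact card_grp hC

open scoped MatrixGroups
open Cfsg.Agent.Lib.KS2.SL2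

/-- Two central elements different from one of `SL₂` agree. -/
theorem scalar_eq_of_ne_one {F : Type*} [Field F] {x y : SL(2, F)} (hx : IsScalar x) (hy : IsScalar y) (hx1 : x ≠ 1)
    (hy1 : y ≠ 1) : x = y := by
  have key : ∀ z : SL(2, F), IsScalar z → z ≠ 1 → (z : Matrix (Fin 2) (Fin 2) F) 0 0 = -1 := by
    intro z hz hz1
    obtain ⟨h01, h10, h00⟩ := hz
    have hd := det_rel z
    rw [h01, h10, ← h00] at hd
    have h3 : ((z : Matrix (Fin 2) (Fin 2) F) 0 0 - 1) * ((z : Matrix (Fin 2) (Fin 2) F) 0 0 + 1) = 0 := by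
      linear_combination hd
    rcases mul_eq_zero.mp h3 with h4 | h4
    · exfalso
      apply hz1
      have h5 : (z : Matrix (Fin 2) (Fin 2) F) 0 0 = 1 := by linear_combination h4
      apply ext4
      · simpa using h5
      · simpa using h01
      · simpa using h10
      · rw [← h00, h5]
        simp
    · linear_combination h4
  have h1 := key x hx hx1
  have h2 := key y hy hy1
  obtain ⟨h01, h10, h00⟩ := hx
  obtain ⟨h01', h10', h00'⟩ := hy
  apply ext4
  · rw [h1, h2]
  · rw [h01, h01']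
  · rw [h10, h10']
  · rw [← h00, ← h00', h1, h2]

/-- A surjection from `SL₂` with a kernel of order two yields `PSL₂`. -/
theorem psl2_equiv_of_surj {F : Type*} [Field F] [Fintype F] {K : Type*} [Group K] (ψ : SL(2, F) →* K)
    (hs : Function.Surjective ψ) (hc : Nat.card SL(2, F) = 2 * Nat.card K) :
    Nonempty (Matrix.ProjectiveSpecialLinearGroup (Fin 2) F ≃* K) := by
  haveI : Finite K := Finite.of_surjective _ hs
  have hkpos : 0 < Nat.card K := Nat.card_pos
  have hk : Nat.card ψ.ker = 2 := by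
    have h1 : ψ.ker.index = Nat.card K := by
      rw [Subgroup.index_ker, MonoidHom.range_eq_top.mpr hs]
      exact Subgroup.card_top
    have h2 := Subgroup.card_mul_index ψ.ker
    rw [h1, hc] at h2
    exact Nat.eq_of_mul_eq_mul_right hkpos h2
  have huniq : ∀ x ∈ ψ.ker, ∀ y ∈ ψ.ker, x ≠ 1 → y ≠ 1 → x = y := by
    intro x hx y hy hx1 hy1
    obtain ⟨w, -, hw⟩ := (Nat.card_eq_two_iff' (1 : ψ.ker)).mp hk
    have e1 := hw ⟨x, hx⟩ (fun h => hx1 (congrArg Subtype.val h))
    have e2 := hw ⟨y, hy⟩ (fun h => hy1 (congrArg Subtype.val h))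
    exact congrArg Subtype.val (e1.trans e2.symm)
  have hle : ψ.ker ≤ Subgroup.center SL(2, F) := by
    intro x hx
    by_cases hx1 : x = 1
    · rw [hx1]
      exact Subgroup.one_mem _
    rw [Subgroup.mem_center_iff]
    intro g
    have h1 : g * x * g⁻¹ ∈ ψ.ker := ψ.normal_ker.conj_mem x hx g
    have h2 : g * x * g⁻¹ ≠ 1 := by
      intro h
      apply hx1
      have := congrArg (fun t => g⁻¹ * t * g) h
      simpa [mul_assoc] using this
    have h3 := huniq _ h1 _ hx h2 hx1
    rw [mul_inv_eq_iff_eq_mul] at h3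
    exact h3
  have hz : ∃ z ∈ ψ.ker, z ≠ 1 := by
    obtain ⟨w, hw1, -⟩ := (Nat.card_eq_two_iff' (1 : ψ.ker)).mp hk
    exact ⟨w.1, w.2, fun h => hw1 (Subtype.ext h)⟩
  obtain ⟨z, hzk, hz1⟩ := hz
  have hge : Subgroup.center SL(2, F) ≤ ψ.ker := by
    intro x hx
    by_cases hx1 : x = 1
    · rw [hx1]
      exact Subgroup.one_mem _
    have e := scalar_eq_of_ne_one ((isScalar_iff_center x).mpr hx) ((isScalar_iff_center z).mpr (hle hzk)) hx1 hz1
    rw [e]
    exact hzk
  have heq : Subgroup.center SL(2, F) = ψ.ker := le_antisymm hge hle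
  exact ⟨(QuotientGroup.quotientMulEquivOfEq heq).trans (QuotientGroup.quotientKerEquivOfSurjective ψ hs)⟩

end Cfsg.Agent.Lib.PiwekK
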