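import Mathlib
import Cfsg.Agent.Lib.PiwekK.GraphHom

/-!
The graph homomorphism and the permutation representation, with their values.
-/

set_option autoImplicit false

namespace Cfsg.Agent.Lib.PiwekK

open Equiv

theorem graph_hom_val {a b : ℕ} {ps : List (ℕ × ℕ)} {n : ℕ} (h : checkGraphH a b ps n = true) :
    ∃ f : grp a (ps.map Prod.fst) →* grp b (ps.map Prod.snd), Function.Surjective f ∧
      ∀ p ∈ ps, ∀ hp, ((f ⟨permOf a p.1, hp⟩ : grp b (ps.map Prod.snd)) : Perm (Fin b)) = permOf b p.2 := by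
  simp only [checkGraphH, Bool.and_eq_true, List.all_eq_true, decide_eq_true_eq] at h
  obtain ⟨⟨⟨hab, hv⟩, hC⟩, hA⟩ := h
  set joined := ps.map (fun p => combine a b p.1 p.2) with hj
  obtain ⟨hm, hvj, -, -, -⟩ := checkC_parts hC
  let S : Set (Perm (Fin a) × Perm (Fin b)) := {q | ∃ p ∈ ps, q = (permOf a p.1, permOf b p.2)}
  let A : Subgroup (Perm (Fin a) × Perm (Fin b)) := Subgroup.closure S
  have hθ : A.map (theta a b) = grp (a + b) joined := by
    rw [MonoidHom.map_closure]
    unfold grp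
    congr 1
    ext σ
    constructor
    · rintro ⟨q, ⟨p, hp, rfl⟩, rfl⟩
      have hc : combine a b p.1 p.2 ∈ joined := List.mem_map.mpr ⟨p, hp, rfl⟩
      exact ⟨_, hc, (permOf_combine hab (hv p hp).1 (hv p hp).2 (hvj _ hc)).symm⟩
    · rintro ⟨c, hc, rfl⟩
      obtain ⟨p, hp, rfl⟩ := List.mem_map.mp hc
      exact ⟨_, ⟨p, hp, rfl⟩, (permOf_combine hab (hv p hp).1 (hv p hp).2 (hvj _ hc)).symm⟩
  have hfst : A.map (MonoidHom.fst _ _) = grp a (ps.map Prod.fst) := by
    rw [MonoidHom.map_closure]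
    unfold grp
    congr 1
    ext σ
    constructor
    · rintro ⟨q, ⟨p, hp, rfl⟩, rfl⟩
      exact ⟨p.1, List.mem_map.mpr ⟨p, hp, rfl⟩, rfl⟩
    · rintro ⟨c, hc, rfl⟩
      obtain ⟨p, hp, rfl⟩ := List.mem_map.mp hc
      exact ⟨_, ⟨p, hp, rfl⟩, rfl⟩
  have hsnd : A.map (MonoidHom.snd _ _) = grp b (ps.map Prod.snd) := by
    rw [MonoidHom.map_closure]
    unfold grp
    congr 1
    ext σ
    constructor
    · rintro ⟨q, ⟨p, hp, rfl⟩, rfl⟩
      exact ⟨p.2, List.mem_map.mpr ⟨p, hp, rfl⟩, rfl⟩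
    · rintro ⟨c, hc, rfl⟩
      obtain ⟨p, hp, rfl⟩ := List.mem_map.mp hc
      exact ⟨_, ⟨p, hp, rfl⟩, rfl⟩
  have hmemA : ∀ q ∈ A, code (theta a b q) ∈ toL (elemsT (a + b) joined) := by
    intro q hq
    rw [mem_elemsC_iff hC, ← hθ]
    exact ⟨q, hq, rfl⟩
  have hone : ∀ q ∈ A, code (theta a b q) = idc (a + b) → q = 1 := by
    intro q hq he
    rw [← code_one] at he
    have := code_injective hm he
    exact theta_injective a b (by rw [this, map_one])
  have injF : Function.Injective ((MonoidHom.fst _ _).comp A.subtype) := by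
    rw [injective_iff_map_eq_one]
    rintro ⟨⟨s, t⟩, hq⟩ hs
    have hs' : s = 1 := hs
    subst hs'
    apply Subtype.ext
    apply hone _ hq
    have h1 := hA _ (hmemA _ hq)
    rw [Bool.or_eq_true] at h1
    rcases h1 with h1 | h1
    · exact Nat.beq_eq.mp h1
    · exfalso
      have h2 : (List.range a).all (fun i => Nat.beq (dig (code (theta a b (1, t))) i) i) = true := by
        rw [List.all_eq_true]
        intro i hi
        have hi' : i < a := List.mem_range.mp hi
        have := dig_code hm (theta a b (1, t)) (Fin.castAdd b ⟨i, hi'⟩)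
        rw [theta_castAdd] at this
        rw [Nat.beq_eq]
        simpa using this
      rw [h2] at h1
      exact Bool.false_ne_true h1
  have hrng : ((MonoidHom.fst _ _).comp A.subtype).range = grp a (ps.map Prod.fst) := by
    rw [MonoidHom.range_comp, Subgroup.range_subtype, hfst]
  let eF : A ≃* grp a (ps.map Prod.fst) := (MonoidHom.ofInjective injF).trans (MulEquiv.subgroupCongr hrng)
  have hr : ∀ x : A, (x : Perm (Fin a) × Perm (Fin b)).2 ∈ grp b (ps.map Prod.snd) := by
    intro x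
    rw [← hsnd]
    exact ⟨x, x.2, rfl⟩
  let g : A →* grp b (ps.map Prod.snd) := ((MonoidHom.snd _ _).comp A.subtype).codRestrict _ hr
  have hg : Function.Surjective g := by
    rintro ⟨y, hy⟩
    rw [← hsnd] at hy
    obtain ⟨x, hx, rfl⟩ := hy
    exact ⟨⟨x, hx⟩, rfl⟩
  refine ⟨g.comp eF.symm.toMonoidHom, hg.comp eF.symm.surjective, ?_⟩
  intro p hp hp'
  let q0 : A := ⟨(permOf a p.1, permOf b p.2), Subgroup.subset_closure ⟨p, hp, rfl⟩⟩
  have h1 : eF q0 = ⟨permOf a p.1, hp'⟩ := Subtype.ext rfl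
  have h2 : eF.symm ⟨permOf a p.1, hp'⟩ = q0 := by
    rw [← h1]
    exact eF.symm_apply_apply q0
  show ((g (eF.symm ⟨permOf a p.1, hp'⟩) : grp b (ps.map Prod.snd)) : Perm (Fin b)) = permOf b p.2
  rw [h2]
  rfl

section matrix

variable {ι R : Type*} [Fintype ι] [DecidableEq ι] [CommRing R]

open Matrix

/-- A matrix group which permutes a finite set of vectors containing the basis embeds in a permutation group. -/
theorem closure_equiv_grp_val {m : ℕ} (hm : m ≤ 1024) (G₀ : Set (GL ι R)) (gB : List ℕ) (S : Fin m → ι → R)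
    (hS : Function.Injective S) (hb : ∀ j, ∃ c : Fin m → R, ∑ i, c i • S i = Pi.single j 1)
    (h1 : ∀ g ∈ G₀, ∃ c ∈ gB, ∀ i, (g : Matrix ι ι R) *ᵥ S i = S (permOf m c i))
    (h2 : ∀ c ∈ gB, ∃ g ∈ G₀, ∀ i, (g : Matrix ι ι R) *ᵥ S i = S (permOf m c i)) :
    ∃ e : Subgroup.closure G₀ ≃* grp m gB, ∀ (x : Subgroup.closure G₀) (i : Fin m),
      ((x : GL ι R) : Matrix ι ι R) *ᵥ S i = S (((e x : grp m gB) : Perm (Fin m)) i) := by
  classical
  -- the relation between group elements and permutations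
  let Rel : GL ι R → Perm (Fin m) → Prop := fun g σ => ∀ i, (g : Matrix ι ι R) *ᵥ S i = S (σ i)
  have rel_mul : ∀ g g' σ σ', Rel g σ → Rel g' σ' → Rel (g * g') (σ * σ') := by
    intro g g' σ σ' h h' i
    simp only [Units.val_mul, Perm.coe_mul, Function.comp]
    rw [← Matrix.mulVec_mulVec, h', h]
  have rel_inv : ∀ g σ, Rel g σ → Rel g⁻¹ σ⁻¹ := by
    intro g σ h i
    have e := h (σ⁻¹ i)
    have e0 : σ (σ⁻¹ i) = i := σ.apply_symm_apply i
    rw [e0] at e
    rw [← e, Matrix.mulVec_mulVec]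
    simp
  have rel_one : Rel 1 1 := by
    intro i
    simp
  have rel_uniq : ∀ g σ σ', Rel g σ → Rel g σ' → σ = σ' := by
    intro g σ σ' h h'
    ext i
    have := hS ((h i).symm.trans (h' i))
    rw [this]
  have rel_ker : ∀ g g' σ, Rel g σ → Rel g' σ → g = g' := by
    intro g g' σ h h'
    apply Units.ext
    ext r j
    obtain ⟨c, hc⟩ := hb j
    have e1 : (g : Matrix ι ι R) *ᵥ (∑ i, c i • S i) = (g' : Matrix ι ι R) *ᵥ (∑ i, c i • S i) := by
      rw [Matrix.mulVec_sum, Matrix.mulVec_sum]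
      refine Finset.sum_congr rfl fun i _ => ?_
      rw [Matrix.mulVec_smul, Matrix.mulVec_smul, h i, h' i]
    rw [hc, Matrix.mulVec_single_one, Matrix.mulVec_single_one] at e1
    exact congrFun e1 r
  -- every element of the closure is related to an element of the permutation group
  have hex : ∀ g ∈ Subgroup.closure G₀, ∃ σ ∈ grp m gB, Rel g σ := by
    intro g hg
    induction hg using Subgroup.closure_induction with
    | mem x hx =>
      obtain ⟨c, hc, hr⟩ := h1 x hx
      exact ⟨_, permOf_mem_grp hc, hr⟩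
    | one => exact ⟨1, Subgroup.one_mem _, rel_one⟩
    | mul x y _ _ hx hy =>
      obtain ⟨σ, hσ, h3⟩ := hx
      obtain ⟨τ, hτ, h4⟩ := hy
      exact ⟨σ * τ, Subgroup.mul_mem _ hσ hτ, rel_mul _ _ _ _ h3 h4⟩
    | inv x _ hx =>
      obtain ⟨σ, hσ, h3⟩ := hx
      exact ⟨σ⁻¹, Subgroup.inv_mem _ hσ, rel_inv _ _ h3⟩
  have hex' : ∀ σ ∈ grp m gB, ∃ g ∈ Subgroup.closure G₀, Rel g σ := by
    intro σ hσ
    induction hσ using Subgroup.closure_induction with
    | mem x hx =>
      obtain ⟨c, hc, rfl⟩ := hx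
      obtain ⟨g, hg, hr⟩ := h2 c hc
      exact ⟨g, Subgroup.subset_closure hg, hr⟩
    | one => exact ⟨1, Subgroup.one_mem _, rel_one⟩
    | mul x y _ _ hx hy =>
      obtain ⟨σ, hσ, h3⟩ := hx
      obtain ⟨τ, hτ, h4⟩ := hy
      exact ⟨σ * τ, Subgroup.mul_mem _ hσ hτ, rel_mul _ _ _ _ h3 h4⟩
    | inv x _ hx =>
      obtain ⟨σ, hσ, h3⟩ := hx
      exact ⟨σ⁻¹, Subgroup.inv_mem _ hσ, rel_inv _ _ h3⟩
  let f : (g : GL ι R) → g ∈ Subgroup.closure G₀ → Perm (Fin m) := fun g hg => Classical.choose (hex g hg)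
  have hf : ∀ g hg, f g hg ∈ grp m gB := fun g hg => (Classical.choose_spec (hex g hg)).1
  have hf' : ∀ g hg, Rel g (f g hg) := fun g hg => (Classical.choose_spec (hex g hg)).2
  let e : Subgroup.closure G₀ ≃* grp m gB :=
    MulEquiv.ofBijective (MonoidHom.mk' (fun g : Subgroup.closure G₀ => (⟨f g g.2, hf g g.2⟩ : grp m gB)) (by
      rintro ⟨x, hx⟩ ⟨y, hy⟩
      apply Subtype.ext
      exact rel_uniq (x * y) _ _ (hf' _ (Subgroup.mul_mem _ hx hy)) (rel_mul _ _ _ _ (hf' x hx) (hf' y hy)))) ⟨by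
      rintro ⟨x, hx⟩ ⟨y, hy⟩ he
      apply Subtype.ext
      have e : f x hx = f y hy := congrArg Subtype.val he
      have h3 := hf' x hx
      rw [e] at h3
      exact rel_ker _ _ _ h3 (hf' y hy), by
      rintro ⟨σ, hσ⟩
      obtain ⟨g, hg, hr⟩ := hex' σ hσ
      refine ⟨⟨g, hg⟩, Subtype.ext ?_⟩
      exact rel_uniq g _ _ (hf' g hg) hr⟩
  exact ⟨e, fun x i => hf' x.1 x.2 i⟩

end matrix

/-- A surjection of a subgroup with a kernel of order two which is the intersection with a normal subgroup. -/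
theorem map_quot_equiv {G K : Type*} [Group G] [Group K] [Finite K] (T Z : Subgroup G) [Z.Normal] [Finite T]
    (f : T →* K) (hf : Function.Surjective f) (z : T) (hz : (z : G) ∈ Z) (hz1 : z ≠ 1) (hfz : f z = 1)
    (hZ : Nat.card Z = 2) (hT : Nat.card T = 2 * Nat.card K) :
    Nonempty (T.map (QuotientGroup.mk' Z) ≃* K) := by
  have hkpos : 0 < Nat.card K := Nat.card_pos
  have hk : Nat.card f.ker = 2 := by
    have h1 : f.ker.index = Nat.card K := by
      rw [Subgroup.index_ker, MonoidHom.range_eq_top.mpr hf]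
      exact Subgroup.card_top
    have h2 := Subgroup.card_mul_index f.ker
    rw [h1, hT] at h2
    exact Nat.eq_of_mul_eq_mul_right hkpos h2
  -- the elements of the kernel of `f`
  have hk2 : ∀ x : T, x ∈ f.ker → x = 1 ∨ x = z := by
    intro x hx
    by_cases hx1 : x = 1
    · exact Or.inl hx1
    right
    obtain ⟨w, -, hw⟩ := (Nat.card_eq_two_iff' (1 : f.ker)).mp hk
    have e1 := hw ⟨x, hx⟩ (fun h => hx1 (congrArg Subtype.val h))
    have e2 := hw ⟨z, hfz⟩ (fun h => hz1 (congrArg Subtype.val h))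
    exact congrArg Subtype.val (e1.trans e2.symm)
  have hZ2 : ∀ x ∈ Z, x = 1 ∨ x = (z : G) := by
    intro x hx
    by_cases hx1 : x = 1
    · exact Or.inl hx1
    right
    have hz1' : (z : G) ≠ 1 := fun h => hz1 (Subtype.ext h)
    obtain ⟨w, -, hw⟩ := (Nat.card_eq_two_iff' (1 : Z)).mp hZ
    have e1 := hw ⟨x, hx⟩ (fun h => hx1 (congrArg Subtype.val h))
    have e2 := hw ⟨z, hz⟩ (fun h => hz1' (congrArg Subtype.val h))
    exact congrArg Subtype.val (e1.trans e2.symm)
  let π : T →* T.map (QuotientGroup.mk' Z) :=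
    ((QuotientGroup.mk' Z).comp T.subtype).codRestrict _ (fun x => ⟨x, x.2, rfl⟩)
  have hπ : Function.Surjective π := by
    rintro ⟨y, x, hx, rfl⟩
    exact ⟨⟨x, hx⟩, rfl⟩
  have hker : π.ker = f.ker := by
    ext x
    have hπx : x ∈ π.ker ↔ (x : G) ∈ Z := by
      rw [MonoidHom.mem_ker]
      constructor
      · intro h
        have h' : ((π x : T.map (QuotientGroup.mk' Z)) : G ⧸ Z) = 1 := by rw [h]; rfl
        exact (QuotientGroup.eq_one_iff _).mp h'
      · intro h
        apply Subtype.ext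
        exact (QuotientGroup.eq_one_iff _).mpr h
    rw [hπx]
    constructor
    · intro h
      rcases hZ2 _ h with h1 | h1
      · have : x = 1 := Subtype.ext h1
        rw [this]
        exact Subgroup.one_mem _
      · have : x = z := Subtype.ext h1
        rw [this]
        exact hfz
    · intro h
      rcases hk2 x h with h1 | h1
      · rw [h1]
        exact Subgroup.one_mem _
      · rw [h1]
        exact hz
  exact ⟨(QuotientGroup.quotientKerEquivOfSurjective π hπ).symm.trans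
    ((QuotientGroup.quotientMulEquivOfEq hker).trans (QuotientGroup.quotientKerEquivOfSurjective f hf))⟩

/-- Isomorphic subgroups of the right orders give isomorphic Sylow subgroups, up to an isomorphism of the target. -/
theorem sylow_equiv_of {G G' H : Type*} [Group G] [Group G'] [Group H] [Finite G] [Finite H] (φ : G ≃* G')
    (P : Sylow 2 H) (Q : Sylow 2 G) (A : Subgroup H) (B : Subgroup G')
    (hA : Nat.card A = 2 ^ (Nat.card H).factorization 2) (hB : Nat.card B = 2 ^ (Nat.card G').factorization 2)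
    (e : A ≃* B) : Nonempty ((P : Subgroup H) ≃* (Q : Subgroup G)) := by
  let B' : Subgroup G := B.map φ.symm.toMonoidHom
  have e' : B ≃* B' := B.equivMapOfInjective _ φ.symm.injective
  have hB' : Nat.card B' = 2 ^ (Nat.card G).factorization 2 := by
    rw [← Nat.card_congr e'.toEquiv, hB, Nat.card_congr φ.toEquiv]
  let P₀ : Sylow 2 H := Sylow.ofCard A hA
  let Q₀ : Sylow 2 G := Sylow.ofCard B' hB'
  have e1 : (P : Subgroup H) ≃* A := Sylow.equiv P P₀
  have e2 : B' ≃* (Q : Subgroup G) := Sylow.equiv Q₀ Q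
  exact ⟨e1.trans (e.trans (e'.trans e2))⟩

/-- The `2`-part of a number. -/
theorem fac2_of {b k : ℕ} (hb : ¬ 2 ∣ b) : (2 ^ k * b).factorization 2 = k := by
  have hb0 : b ≠ 0 := by
    rintro rfl
    exact hb (dvd_zero 2)
  rw [Nat.factorization_mul (by positivity) hb0, Nat.Prime.factorization_pow Nat.prime_two, Finsupp.add_apply,
    Nat.factorization_eq_zero_of_not_dvd hb]
  simp

end Cfsg.Agent.Lib.PiwekK
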